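import Mathlib

/-!
# Bijectivity in codimension `≤ 1` implies bijectivity (finite flat modules over Noetherian rings)

Algebra input for S15809: if `ψ : D → C` is a linear map of finite flat modules over a Noetherian
ring `R` which becomes bijective after localizing at every prime of height `≤ 1`, then `ψ` is
bijective.
-/

set_option autoImplicit false

open scoped TensorProduct

namespace Groth.Agent.Helper6.CodimOneIso

section glue

variable {R : Type*} [CommRing R] {D C : Type*} [AddCommGroup D] [Module R D]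
  [AddCommGroup C] [Module R C]

theorem isLocalizedModule_mk (p : Ideal R) [p.IsPrime] (A : Type*) [CommRing A] [Algebra R A]
    [IsLocalization.AtPrime A p] (M : Type*) [AddCommGroup M] [Module R M] :
    IsLocalizedModule p.primeCompl (TensorProduct.mk R A M 1) :=
  (isLocalizedModule_iff_isBaseChange p.primeCompl A _).mpr (TensorProduct.isBaseChange R M A)

/-- If `ψ` becomes bijective after inverting a single `f ∉ p` (stated elementwise), then
its base change to the localization at `p` is bijective. -/
theorem bijective_baseChange_of_away (ψ : D →ₗ[R] C) (p : Ideal R) [p.IsPrime]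
    (A : Type*) [CommRing A] [Algebra R A] [IsLocalization.AtPrime A p] (f : R) (hf : f ∉ p)
    (hsurj : ∀ c : C, ∃ (d : D) (k : ℕ), ψ d = f ^ k • c)
    (hinj : ∀ d : D, ψ d = 0 → ∃ k : ℕ, f ^ k • d = 0) :
    Function.Bijective (ψ.baseChange A) := by
  haveI hD : IsLocalizedModule p.primeCompl (TensorProduct.mk R A D 1) :=
    isLocalizedModule_mk p A D
  haveI hC : IsLocalizedModule p.primeCompl (TensorProduct.mk R A C 1) :=
    isLocalizedModule_mk p A C
  have hfc : f ∈ p.primeCompl := hf
  constructor
  · rw [injective_iff_map_eq_zero]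
    intro x hx
    obtain ⟨⟨d, s⟩, hds⟩ := IsLocalizedModule.surj p.primeCompl (TensorProduct.mk R A D 1) x
    have hds' : s • x = (1 : A) ⊗ₜ[R] d := hds
    have h1 : (1 : A) ⊗ₜ[R] ψ d = 0 := by
      have h := congrArg (ψ.baseChange A) hds'
      rw [LinearMap.baseChange_tmul] at h
      rw [← h, Submonoid.smul_def, LinearMap.map_smul_of_tower, hx, smul_zero]
    obtain ⟨t, ht⟩ :=
      (IsLocalizedModule.eq_zero_iff p.primeCompl (TensorProduct.mk R A C 1) (m := ψ d)).mp h1
    have h2 : ψ ((t : R) • d) = 0 := by rw [map_smul]; exact ht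
    obtain ⟨k, hk⟩ := hinj _ h2
    have h3 : (1 : A) ⊗ₜ[R] d = 0 := by
      apply (IsLocalizedModule.eq_zero_iff p.primeCompl (TensorProduct.mk R A D 1) (m := d)).mpr
      refine ⟨⟨f ^ k * t, p.primeCompl.mul_mem (pow_mem hfc k) t.2⟩, ?_⟩
      show (f ^ k * (t : R)) • d = 0
      rw [mul_smul]; exact hk
    have h4 : s • x = 0 := by rw [hds']; exact h3
    have hinj' := IsLocalizedModule.smul_injective (TensorProduct.mk R A D 1) s
    apply hinj'
    show s • x = s • 0
    rw [h4, smul_zero]
  · intro y
    induction y using TensorProduct.induction_on with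
    | zero => exact ⟨0, map_zero _⟩
    | tmul a c =>
      obtain ⟨d, k, hdk⟩ := hsurj c
      have hu : IsUnit (algebraMap R A (f ^ k)) :=
        IsLocalization.map_units A (⟨f ^ k, pow_mem hfc k⟩ : p.primeCompl)
      obtain ⟨u, hu'⟩ := hu
      refine ⟨(a * ↑u⁻¹) ⊗ₜ[R] d, ?_⟩
      have hsm : f ^ k • (a * ↑u⁻¹) = a := by
        rw [Algebra.smul_def, ← hu', mul_comm a, ← mul_assoc, Units.mul_inv, one_mul]
      rw [LinearMap.baseChange_tmul, hdk, TensorProduct.tmul_smul, TensorProduct.smul_tmul', hsm]
    | add x y hx hy =>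
      obtain ⟨x', rfl⟩ := hx
      obtain ⟨y', rfl⟩ := hy
      exact ⟨x' + y', map_add _ _ _⟩

/-- Bijectivity can be checked after base change to the localizations at all maximal ideals. -/
theorem bijective_of_baseChange_maximal (ψ : D →ₗ[R] C)
    (H : ∀ (q : Ideal R) [q.IsMaximal],
      Function.Bijective (ψ.baseChange (Localization.AtPrime q))) :
    Function.Bijective ψ := by
  haveI i1 : ∀ (q : Ideal R) [q.IsMaximal], IsLocalizedModule.AtPrime q
      (TensorProduct.mk R (Localization.AtPrime q) D 1) :=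
    fun q _ => isLocalizedModule_mk q _ D
  haveI i2 : ∀ (q : Ideal R) [q.IsMaximal], IsLocalizedModule.AtPrime q
      (TensorProduct.mk R (Localization.AtPrime q) C 1) :=
    fun q _ => isLocalizedModule_mk q _ C
  refine bijective_of_isLocalized_maximal
    (fun q _ => Localization.AtPrime q ⊗[R] D)
    (fun q _ => TensorProduct.mk R (Localization.AtPrime q) D 1)
    (fun q _ => Localization.AtPrime q ⊗[R] C)
    (fun q _ => TensorProduct.mk R (Localization.AtPrime q) C 1) ψ ?_
  intro q hq
  have hmap : IsLocalizedModule.map q.primeCompl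
      (TensorProduct.mk R (Localization.AtPrime q) D 1)
      (TensorProduct.mk R (Localization.AtPrime q) C 1) ψ =
      (ψ.baseChange (Localization.AtPrime q)).restrictScalars R := by
    apply IsLocalizedModule.linearMap_ext q.primeCompl
      (TensorProduct.mk R (Localization.AtPrime q) D 1)
      (TensorProduct.mk R (Localization.AtPrime q) C 1)
    ext d
    show (IsLocalizedModule.map q.primeCompl (TensorProduct.mk R (Localization.AtPrime q) D 1)
      (TensorProduct.mk R (Localization.AtPrime q) C 1) ψ)
        ((TensorProduct.mk R (Localization.AtPrime q) D 1) d) =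
      (ψ.baseChange (Localization.AtPrime q)) ((1 : Localization.AtPrime q) ⊗ₜ[R] d)
    rw [IsLocalizedModule.map_apply, LinearMap.baseChange_tmul]
    rfl
  show Function.Bijective (IsLocalizedModule.map q.primeCompl
      (TensorProduct.mk R (Localization.AtPrime q) D 1)
      (TensorProduct.mk R (Localization.AtPrime q) C 1) ψ)
  rw [hmap]
  exact H q

end glue

section core

/-- The free case: a linear map of finite free modules over a Noetherian ring which is bijective
after localizing at every prime of height `≤ 1` is bijective (determinant + Krull's principal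
ideal theorem). -/
theorem core {L : Type*} [CommRing L] [IsNoetherianRing L] {D' C' : Type*}
    [AddCommGroup D'] [Module L D'] [AddCommGroup C'] [Module L C']
    [Module.Free L D'] [Module.Finite L D'] [Module.Free L C'] [Module.Finite L C']
    (ψ' : D' →ₗ[L] C')
    (H : ∀ (P : Ideal L) [P.IsPrime], P.height ≤ 1 →
      Function.Bijective (ψ'.baseChange (Localization.AtPrime P))) :
    Function.Bijective ψ' := by
  classical
  by_cases hL : Subsingleton L
  · haveI := Module.subsingleton L D'
    haveI := Module.subsingleton L C'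
    exact ⟨fun a b _ => Subsingleton.elim a b, fun c => ⟨0, Subsingleton.elim _ _⟩⟩
  rw [not_subsingleton_iff_nontrivial] at hL
  obtain ⟨b, hb⟩ : ∃ b : Module.Basis (Module.Free.ChooseBasisIndex L D') L D',
      b = Module.Free.chooseBasis L D' := ⟨_, rfl⟩
  obtain ⟨c, hc⟩ : ∃ c : Module.Basis (Module.Free.ChooseBasisIndex L C') L C',
      c = Module.Free.chooseBasis L C' := ⟨_, rfl⟩
  -- a minimal prime gives equality of ranks
  obtain ⟨⟨P₀, hP₀⟩⟩ := Ideal.nonempty_minimalPrimes (I := (⊥ : Ideal L)) bot_ne_top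
  haveI hP₀prime : P₀.IsPrime := hP₀.1.1
  have hht0 : P₀.height ≤ 1 := by
    have h0 : P₀.height = 0 := Ideal.height_eq_zero_iff.mpr hP₀
    rw [h0]; exact zero_le_one
  have hbij0 := H P₀ hht0
  have hcard : Fintype.card (Module.Free.ChooseBasisIndex L D') =
      Fintype.card (Module.Free.ChooseBasisIndex L C') := by
    have h1 := (LinearEquiv.ofBijective _ hbij0).finrank_eq
    rw [Module.finrank_eq_card_basis (Algebra.TensorProduct.basis (Localization.AtPrime P₀) b),
      Module.finrank_eq_card_basis (Algebra.TensorProduct.basis (Localization.AtPrime P₀) c)] at h1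
    exact h1
  obtain ⟨c', hc'⟩ : ∃ c' : Module.Basis (Module.Free.ChooseBasisIndex L D') L C',
      c' = c.reindex (Fintype.equivOfCardEq hcard).symm := ⟨_, rfl⟩
  obtain ⟨δ, hδ⟩ : ∃ δ : L, δ = (LinearMap.toMatrix b c' ψ').det := ⟨_, rfl⟩
  have hunit_loc : ∀ (P : Ideal L) [P.IsPrime], P.height ≤ 1 → δ ∉ P := by
    intro P _ hht hmem
    have hbP := H P hht
    have hu := LinearEquiv.isUnit_det (LinearEquiv.ofBijective _ hbP)
      (Algebra.TensorProduct.basis (Localization.AtPrime P) b)
      (Algebra.TensorProduct.basis (Localization.AtPrime P) c')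
    have hcoe : ((LinearEquiv.ofBijective _ hbP :
        (Localization.AtPrime P ⊗[L] D') ≃ₗ[Localization.AtPrime P]
          (Localization.AtPrime P ⊗[L] C')) :
        (Localization.AtPrime P ⊗[L] D') →ₗ[Localization.AtPrime P]
          (Localization.AtPrime P ⊗[L] C')) = ψ'.baseChange (Localization.AtPrime P) :=
      LinearMap.ext fun x => rfl
    rw [hcoe, LinearMap.toMatrix_baseChange, ← RingHom.mapMatrix_apply, ← RingHom.map_det,
      ← hδ] at hu
    exact ((IsLocalization.AtPrime.isUnit_to_map_iff (Localization.AtPrime P) P δ).mp hu) hmem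
  have hδunit : IsUnit δ := by
    by_contra hnu
    have hne : Ideal.span {δ} ≠ ⊤ := by
      rwa [Ne, Ideal.span_singleton_eq_top]
    obtain ⟨⟨P, hP⟩⟩ := Ideal.nonempty_minimalPrimes hne
    haveI : P.IsPrime := hP.1.1
    have hht : P.height ≤ 1 :=
      Ideal.height_le_one_of_isPrincipal_of_mem_minimalPrimes (Ideal.span {δ}) P hP
    exact hunit_loc P hht (hP.1.2 (Ideal.mem_span_singleton_self δ))
  rw [hδ] at hδunit
  exact ⟨fun x y h => (LinearEquiv.ofIsUnitDet hδunit).injective h,
    fun y => (LinearEquiv.ofIsUnitDet hδunit).surjective y⟩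

end core

section main

/-- **Main algebra lemma.** `R` Noetherian, `D`, `C` finite flat `R`-modules, `ψ : D → C` linear.
If for every prime `p` of height `≤ 1` there is `f ∉ p` such that `ψ` is bijective after inverting
`f` (stated elementwise), then `ψ` is bijective. -/
theorem main_lin {R : Type*} [CommRing R] [IsNoetherianRing R] {D C : Type*}
    [AddCommGroup D] [Module R D] [AddCommGroup C] [Module R C]
    [Module.Finite R D] [Module.Flat R D] [Module.Finite R C] [Module.Flat R C]
    (ψ : D →ₗ[R] C)
    (H : ∀ p : Ideal R, p.IsPrime → p.height ≤ 1 → ∃ f : R, f ∉ p ∧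
      (∀ c : C, ∃ (d : D) (k : ℕ), ψ d = f ^ k • c) ∧
      (∀ d : D, ψ d = 0 → ∃ k : ℕ, f ^ k • d = 0)) :
    Function.Bijective ψ := by
  apply bijective_of_baseChange_maximal
  intro q hq
  haveI : IsNoetherianRing (Localization.AtPrime q) :=
    IsLocalization.isNoetherianRing q.primeCompl _ inferInstance
  haveI : Module.Free (Localization.AtPrime q) (Localization.AtPrime q ⊗[R] D) :=
    Module.free_of_flat_of_isLocalRing
  haveI : Module.Free (Localization.AtPrime q) (Localization.AtPrime q ⊗[R] C) :=
    Module.free_of_flat_of_isLocalRing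
  apply core (ψ.baseChange (Localization.AtPrime q))
  intro P hP hht
  have hp_ht : (P.comap (algebraMap R (Localization.AtPrime q))).height ≤ 1 := by
    have := IsLocalization.height_under q.primeCompl P
    rw [show P.under R = P.comap (algebraMap R (Localization.AtPrime q)) from rfl] at this
    rw [this]; exact hht
  obtain ⟨f, hf, hs, hi⟩ := H _ inferInstance hp_ht
  have hb : Function.Bijective (ψ.baseChange (Localization.AtPrime P)) :=
    bijective_baseChange_of_away ψ (P.comap (algebraMap R (Localization.AtPrime q)))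
      (Localization.AtPrime P) f hf hs hi
  rw [LinearMap.baseChange_baseChange]
  simp only [LinearMap.coe_comp, LinearEquiv.coe_coe]
  exact (LinearEquiv.bijective _).comp (hb.comp (LinearEquiv.bijective _))

/-- Ring-hom form of `main_lin`. -/
theorem alg_main {R D C : Type*} [CommRing R] [CommRing D] [CommRing C] [IsNoetherianRing R]
    (φ : R →+* D) (ψ : D →+* C) (h1 : φ.Finite) (h2 : φ.Flat)
    (h3 : (ψ.comp φ).Finite) (h4 : (ψ.comp φ).Flat)
    (H : ∀ p : Ideal R, p.IsPrime → p.height ≤ 1 → ∃ f : R, f ∉ p ∧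
      (∀ c : C, ∃ (d : D) (k : ℕ), ψ d = ψ (φ f) ^ k * c) ∧
      (∀ d : D, ψ d = 0 → ∃ k : ℕ, φ f ^ k * d = 0)) :
    Function.Bijective ψ := by
  letI := φ.toAlgebra
  letI := (ψ.comp φ).toAlgebra
  haveI : Module.Finite R D := h1
  haveI : Module.Flat R D := h2
  haveI : Module.Finite R C := h3
  haveI : Module.Flat R C := h4
  have hsmD : ∀ (r : R) (d : D), r • d = φ r * d := fun r d => rfl
  have hsmC : ∀ (r : R) (c : C), r • c = ψ (φ r) * c := fun r c => rfl
  obtain ⟨ψl, hψl⟩ : ∃ ψl : D →ₗ[R] C, ∀ d, ψl d = ψ d :=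
    ⟨{ toFun := ψ
       map_add' := map_add ψ
       map_smul' := fun r d => by
        simp only [RingHom.id_apply, hsmD, hsmC, map_mul] }, fun d => rfl⟩
  have hmain : Function.Bijective ψl := by
    apply main_lin ψl
    intro p hp hht
    obtain ⟨f, hf, hs, hi⟩ := H p hp hht
    refine ⟨f, hf, fun c => ?_, fun d hd => ?_⟩
    · obtain ⟨d, k, h⟩ := hs c
      exact ⟨d, k, by rw [hψl, hsmC, h, map_pow, map_pow]⟩
    · rw [hψl] at hd
      obtain ⟨k, h⟩ := hi d hd
      exact ⟨k, by rw [hsmD, map_pow]; exact h⟩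
  have hfun : (ψl : D → C) = ψ := funext hψl
  rw [← hfun]
  exact hmain

/-- Pure ring lemma extracting the elementwise statements from bijectivity on a localization. -/
theorem ring_away {D D' C C' : Type*} [CommRing D] [CommRing D'] [CommRing C] [CommRing C']
    (ψ : D →+* C) (ψ' : D' →+* C') (rD : D →+* D') (rC : C →+* C') (g : D)
    (hnat : ∀ y, ψ' (rD y) = rC (ψ y)) (hbij : Function.Bijective ψ')
    (hF1 : ∀ d' : D', ∃ (n : ℕ) (a : D), d' * rD g ^ n = rD a)
    (hF2 : ∀ d : D, rD d = 0 → ∃ k : ℕ, g ^ k * d = 0)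
    (hF3 : ∀ x : C, rC x = 0 → ∃ m : ℕ, ψ g ^ m * x = 0) :
    (∀ c : C, ∃ (d : D) (k : ℕ), ψ d = ψ g ^ k * c) ∧
    (∀ d : D, ψ d = 0 → ∃ k : ℕ, g ^ k * d = 0) := by
  refine ⟨fun c => ?_, fun d hd => ?_⟩
  · obtain ⟨d', hd'⟩ := hbij.2 (rC c)
    obtain ⟨n, a, hna⟩ := hF1 d'
    have h1 := congrArg ψ' hna
    rw [map_mul, map_pow, hd', hnat, hnat] at h1
    have h2 : rC (c * ψ g ^ n - ψ a) = 0 := by
      rw [map_sub, map_mul, map_pow, h1, sub_self]
    obtain ⟨m, hm⟩ := hF3 _ h2
    refine ⟨g ^ m * a, m + n, ?_⟩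
    rw [mul_sub, sub_eq_zero] at hm
    rw [map_mul, map_pow, ← hm, pow_add]
    ring
  · apply hF2
    apply hbij.1
    rw [hnat, hd, map_zero, map_zero]

end main

end Groth.Agent.Helper6.CodimOneIso
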