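import Mathlib
import Groth.Prelude.Def_ega3
import Groth.Agent.Lib.Helper4.FibreIso1
import Groth.Agent.Lib.Helper6.CodimOneIso.Alg

/-!
# A morphism of finite flat schemes which is an isomorphism on fibres in codimension `≤ 1`

Geometric input for S15809: if `Ψ : W ⟶ Z` is a morphism of finite flat `S`-schemes over a locally
Noetherian `S` whose fibres over all points of codimension `≤ 1` are isomorphisms, then `Ψ` is an
isomorphism.
-/

set_option autoImplicit false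

universe u

open AlgebraicGeometry CategoryTheory Limits

namespace Groth.Agent.Helper6.CodimOneIso

theorem isIso_restrict_of_le {X Y : Scheme.{u}} (f : X ⟶ Y) {U V : Y.Opens} (hVU : V ≤ U)
    (h : IsIso (f ∣_ U)) : IsIso (f ∣_ V) := by
  have h1 : IsIso ((f ∣_ U) ∣_ (U.ι ⁻¹ᵁ V)) := inferInstance
  have h2 : IsIso (f ∣_ (U.ι ''ᵁ (U.ι ⁻¹ᵁ V))) :=
    ((MorphismProperty.isomorphisms Scheme).arrow_mk_iso_iff
      (morphismRestrictRestrict f U (U.ι ⁻¹ᵁ V))).mp h1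
  have h3 : U.ι ''ᵁ (U.ι ⁻¹ᵁ V) = V := by
    rw [Scheme.Hom.image_preimage_eq_opensRange_inf, Scheme.Opens.opensRange_ι]
    exact inf_eq_right.mpr hVU
  rw [h3] at h2
  exact h2

theorem ringKrullDim_stalk_fromSpec {S : Scheme.{u}} {V : S.Opens} (hV : IsAffineOpen V)
    (y : PrimeSpectrum Γ(S, V)) :
    hV.fromSpec y ∈ V ∧
      ringKrullDim (S.presheaf.stalk (hV.fromSpec y)) = y.asIdeal.height := by
  have hy : hV.fromSpec y ∈ V := by
    have h1 : hV.fromSpec y ∈ Set.range hV.fromSpec := Set.mem_range_self y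
    rw [hV.range_fromSpec] at h1
    exact h1
  refine ⟨hy, ?_⟩
  exact @IsLocalization.AtPrime.ringKrullDim_eq_height _ _ y.asIdeal _ _ _
    (TopCat.Presheaf.algebra_section_stalk S.presheaf ⟨hV.fromSpec y, hy⟩)
    (hV.isLocalization_stalk' y hy)

theorem elementwise_of_isIso_app {W Z : Scheme.{u}} (Ψ : W ⟶ Z) {O : Z.Opens}
    (hO : IsAffineOpen O) (hOW : IsAffineOpen (Ψ ⁻¹ᵁ O)) (g : Γ(Z, O))
    (h : IsIso (Ψ.app (Z.basicOpen g))) :
    (∀ c : Γ(W, Ψ ⁻¹ᵁ O), ∃ (d : Γ(Z, O)) (k : ℕ),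
        (Ψ.app O).hom d = ((Ψ.app O).hom g) ^ k * c) ∧
    (∀ d : Γ(Z, O), (Ψ.app O).hom d = 0 → ∃ k : ℕ, g ^ k * d = 0) := by
  have hbij : Function.Bijective (Ψ.app (Z.basicOpen g)).hom :=
    (ConcreteCategory.isIso_iff_bijective _).mp h
  have nat := Ψ.naturality (homOfLE (Z.basicOpen_le g)).op
  have e : Ψ ⁻¹ᵁ Z.basicOpen g = W.basicOpen ((Ψ.app O).hom g) := Scheme.preimage_basicOpen Ψ g
  refine ring_away (Ψ.app O).hom (Ψ.app (Z.basicOpen g)).hom
    (Z.presheaf.map (homOfLE (Z.basicOpen_le g)).op).hom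
    (W.presheaf.map
      ((TopologicalSpace.Opens.map Ψ.base).map (homOfLE (Z.basicOpen_le g))).op).hom g
    ?_ hbij ?_ ?_ ?_
  · intro y
    exact congrArg (fun φ => φ.hom y) nat
  · intro d'
    haveI := hO.isLocalization_basicOpen g
    exact IsLocalization.Away.surj g d'
  · intro d hd
    exact exists_pow_mul_eq_zero_of_res_basicOpen_eq_zero_of_isAffineOpen Z hO d g hd
  · intro x hx
    apply exists_pow_mul_eq_zero_of_res_basicOpen_eq_zero_of_isAffineOpen W hOW x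
      ((Ψ.app O).hom g)
    have hfac : W.presheaf.map (homOfLE (W.basicOpen_le ((Ψ.app O).hom g))).op =
        W.presheaf.map
          ((TopologicalSpace.Opens.map Ψ.base).map (homOfLE (Z.basicOpen_le g))).op ≫
          W.presheaf.map (homOfLE e.symm.le).op := by
      rw [← Functor.map_comp]; rfl
    show (W.presheaf.map (homOfLE (W.basicOpen_le ((Ψ.app O).hom g))).op).hom x = 0
    rw [hfac, CommRingCat.hom_comp, RingHom.comp_apply, hx, map_zero]

/-- **Main geometric lemma.** -/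
theorem isIso_of_fibres_codimOne {S W Z : Scheme.{u}} [IsLocallyNoetherian S] (Ψ : W ⟶ Z)
    (w : W ⟶ S) (z : Z ⟶ S) (hw : Ψ ≫ z = w) [IsFinite w] [Flat w] [IsFinite z] [Flat z]
    (H : ∀ s : S, ringKrullDim (S.presheaf.stalk s) ≤ 1 →
      IsIso (CohIII.fiberMapOver Ψ w z hw s)) : IsIso Ψ := by
  subst hw
  haveI : IsFinite Ψ := IsFinite.of_comp Ψ z
  have hloc : ∀ s : S, ringKrullDim (S.presheaf.stalk s) ≤ 1 →
      ∃ U : S.Opens, s ∈ U ∧ IsIso (Ψ ∣_ (z ⁻¹ᵁ U)) := by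
    intro s hs
    haveI := H s hs
    exact Groth.Agent.Lib.Helper4.FibreIso1.main Ψ (Ψ ≫ z) z rfl s
  have hcover : ⨆ V : S.affineOpens, z ⁻¹ᵁ (V : S.Opens) = ⊤ :=
    z.iSup_preimage_eq_top (iSup_affineOpens_eq_top S)
  have hP : (MorphismProperty.isomorphisms Scheme) Ψ := by
    rw [IsZariskiLocalAtTarget.iff_of_iSup_eq_top (P := MorphismProperty.isomorphisms Scheme)
      (fun V : S.affineOpens => z ⁻¹ᵁ (V : S.Opens)) hcover]
    intro V
    show IsIso (Ψ ∣_ (z ⁻¹ᵁ (V : S.Opens)))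
    have hV : IsAffineOpen (V : S.Opens) := V.2
    have hO : IsAffineOpen (z ⁻¹ᵁ (V : S.Opens)) := hV.preimage z
    have hOW : IsAffineOpen (Ψ ⁻¹ᵁ (z ⁻¹ᵁ (V : S.Opens))) := hO.preimage Ψ
    rw [isIso_morphismRestrict_iff_isIso_app Ψ hO, ConcreteCategory.isIso_iff_bijective]
    haveI : IsNoetherianRing Γ(S, (V : S.Opens)) := IsLocallyNoetherian.component_noetherian V
    show Function.Bijective (Ψ.app (z ⁻¹ᵁ (V : S.Opens))).hom
    refine alg_main (z.app (V : S.Opens)).hom (Ψ.app (z ⁻¹ᵁ (V : S.Opens))).hom ?_ ?_ ?_ ?_ ?_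
    · exact IsFinite.finite_app z (V : S.Opens) hV
    · rw [Scheme.Hom.app_eq_appLE]
      exact HasRingHomProperty.appLE @Flat z inferInstance V ⟨_, hO⟩ le_rfl
    · exact IsFinite.finite_app (Ψ ≫ z) (V : S.Opens) hV
    · have h4 : ((Ψ ≫ z).appLE (V : S.Opens) ((Ψ ≫ z) ⁻¹ᵁ (V : S.Opens)) le_rfl).hom.Flat :=
        HasRingHomProperty.appLE @Flat (Ψ ≫ z) inferInstance V ⟨_, hOW⟩ le_rfl
      rw [← Scheme.Hom.app_eq_appLE] at h4
      exact h4
    · intro p hp hht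
      obtain ⟨hsV, hdim⟩ := ringKrullDim_stalk_fromSpec hV ⟨p, hp⟩
      have hdim1 : ringKrullDim (S.presheaf.stalk (hV.fromSpec ⟨p, hp⟩)) ≤ 1 := by
        rw [hdim]; exact_mod_cast hht
      obtain ⟨U, hsU, hiso⟩ := hloc _ hdim1
      obtain ⟨f, hfU, hsf⟩ := hV.exists_basicOpen_le (V := U) ⟨_, hsU⟩ hsV
      have hfp : f ∉ p := by
        have h1 : (⟨p, hp⟩ : PrimeSpectrum Γ(S, (V : S.Opens))) ∈
            hV.fromSpec ⁻¹ᵁ S.basicOpen f := hsf
        rw [hV.fromSpec_preimage_basicOpen] at h1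
        exact h1
      have hiso2 : IsIso (Ψ ∣_ (z ⁻¹ᵁ S.basicOpen f)) :=
        isIso_restrict_of_le Ψ (z.preimage_mono hfU) hiso
      have hbasic : IsAffineOpen (z ⁻¹ᵁ S.basicOpen f) := (hV.basicOpen f).preimage z
      rw [isIso_morphismRestrict_iff_isIso_app Ψ hbasic, Scheme.preimage_basicOpen] at hiso2
      exact ⟨f, hfp, elementwise_of_isIso_app Ψ hO hOW _ hiso2⟩
  exact hP

/-- A finite morphism hitting all points of codimension `≤ 1` is surjective. -/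
theorem surjective_of_codimOne {S Y : Scheme.{u}} (y : Y ⟶ S) [IsFinite y]
    (H : ∀ s : S, ringKrullDim (S.presheaf.stalk s) ≤ 1 → s ∈ Set.range y.base) :
    Function.Surjective y.base := by
  intro s₀
  by_contra hs₀
  have hclosed : IsClosed (Set.range y.base) := y.isClosedMap.isClosed_range
  obtain ⟨O, hO⟩ : ∃ O : S.Opens, ∀ s, s ∈ O ↔ s ∉ Set.range y.base :=
    ⟨⟨(Set.range y.base)ᶜ, hclosed.isOpen_compl⟩, fun s => Iff.rfl⟩
  have hsO : s₀ ∈ O := (hO s₀).mpr hs₀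
  obtain ⟨V, hV, hsV, hVO⟩ :=
    TopologicalSpace.Opens.isBasis_iff_nbhd.mp S.isBasis_affineOpens hsO
  have hV' : IsAffineOpen V := hV
  obtain ⟨p, hp, -⟩ := Ideal.exists_minimalPrimes_le (I := (⊥ : Ideal Γ(S, V)))
    (J := (hV'.primeIdealOf ⟨s₀, hsV⟩).asIdeal) bot_le
  haveI hpp : p.IsPrime := hp.1.1
  obtain ⟨hs, hdim⟩ := ringKrullDim_stalk_fromSpec hV' ⟨p, hpp⟩
  have hdim1 : ringKrullDim (S.presheaf.stalk (hV'.fromSpec ⟨p, hpp⟩)) ≤ 1 := by
    rw [hdim]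
    have h0 : p.height = 0 := Ideal.height_eq_zero_iff.mpr hp
    show ((p.height : ℕ∞) : WithBot ℕ∞) ≤ 1
    rw [h0]; exact_mod_cast zero_le_one
  exact (hO _).mp (hVO hs) (H _ hdim1)

end Groth.Agent.Helper6.CodimOneIso
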